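import Groth.Agent.PolLib.Points
import Groth.Prelude.Def_PolLaw2
import Mathlib.FieldTheory.PrimitiveElement
import Mathlib.FieldTheory.PurelyInseparable.Basic
import Mathlib.FieldTheory.PurelyInseparable.Exponent
import Mathlib.FieldTheory.Perfect
import Mathlib.FieldTheory.IsAlgClosed.AlgebraicClosure

/-!
# Multiplicative laws from a finite field extension to the base field

Over an algebraic closure such a law is the product of all embeddings with one multiplicity, and
that multiplicity is a multiple of the exponent of inseparability.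
-/

set_option autoImplicit false
universe u

open scoped TensorProduct Classical
open Polynomial

namespace Groth.Agent.ZBField

open Groth.Agent.PolLib

/-- Multiplicativity on test rings implies multiplicativity on test semirings. -/
theorem isMult_of_rings {A B : Type u} [CommRing A] [CommRing B] [Algebra A B] (F : B →ₚₗ[A] A)
    (h : ∀ (S : Type u) [CommRing S] [Algebra A S], F.toFun' S 1 = 1 ∧
      ∀ x y : S ⊗[A] B, F.toFun' S (x * y) = F.toFun' S x * F.toFun' S y) : PolLaw.IsMult F := by
  intro S _ _
  have hc : ∀ (n : ℕ) (ψ : MvPolynomial (Fin n) A →ₐ[A] S) (p : MvPolynomial (Fin n) A ⊗[A] B),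
      F.toFun' S (rB B ψ p) = rB A ψ (F.toFun' _ p) := fun n ψ p => by
    rw [← rTensor_eq_rB, ← rTensor_eq_rB]
    exact (congrFun (F.isCompat' ψ) p).symm
  refine ⟨?_, fun x y => ?_⟩
  · have := hc 0 (MvPolynomial.aeval Fin.elim0) 1
    rwa [map_one, (h _).1, map_one] at this
  · obtain ⟨n, ψ, x₀, y₀, rfl, rfl⟩ := exists_lift₂ S x y
    rw [← map_mul, hc, hc, hc, (h _).2, map_mul]

/-- Homogeneity on test rings implies homogeneity on test semirings. -/
theorem isHomog_of_rings {A B : Type u} [CommRing A] [CommRing B] [Algebra A B] {d : ℕ}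
    (F : B →ₚₗ[A] A)
    (h : ∀ (S : Type u) [CommRing S] [Algebra A S] (a : S) (z : S ⊗[A] B),
      F.toFun' S (a • z) = a ^ d • F.toFun' S z) : PolLaw.IsHomog F d := by
  intro S _ _ a z
  obtain ⟨n, ψ, p, q, hp, hq⟩ := PolynomialLaw.exists_lift' z a
  have hc : ∀ p : MvPolynomial (Fin n) A ⊗[A] B, F.toFun' S (rB B ψ p) = rB A ψ (F.toFun' _ p) :=
    fun p => by
      rw [← rTensor_eq_rB, ← rTensor_eq_rB]
      exact (congrFun (F.isCompat' ψ) p).symm
  rw [rTensor_eq_rB] at hp
  rw [← hp, ← hq, ← rB_smul, hc, hc, h, rB_smul, map_pow]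

variable {k : Type u} [Field k] {K : Type u} [Field K] [Algebra k K]

theorem exists_law_points {d : ℕ} (F : PolLaw.MulLaw k K k d) :
    ∃ x : Fin d → (K →ₐ[k] (AlgebraicClosure k)), ∀ (R : Type u) [CommRing R] [Algebra k R] (j : (AlgebraicClosure k) →ₐ[k] R)
      (z : R ⊗[k] K), evl F (j.comp (Algebra.ofId k (AlgebraicClosure k))) z = ∏ i, mu (j.comp (x i)) z :=
  exists_points F _

/-- Two laws with the same points up to permutation are equal. -/
theorem eq_of_points {d : ℕ} (F G : PolLaw.MulLaw k K k d)
    (x y : Fin d → (K →ₐ[k] (AlgebraicClosure k)))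
    (hx : ∀ (R : Type u) [CommRing R] [Algebra k R] (j : (AlgebraicClosure k) →ₐ[k] R) (z : R ⊗[k] K),
      evl F (j.comp (Algebra.ofId k (AlgebraicClosure k))) z = ∏ i, mu (j.comp (x i)) z)
    (hy : ∀ (R : Type u) [CommRing R] [Algebra k R] (j : (AlgebraicClosure k) →ₐ[k] R) (z : R ⊗[k] K),
      evl G (j.comp (Algebra.ofId k (AlgebraicClosure k))) z = ∏ i, mu (j.comp (y i)) z)
    (h : ((Finset.univ : Finset (Fin d)).val.map x : Multiset _) = (Finset.univ : Finset (Fin d)).val.map y) : F = G := by
  refine PolLaw.MulLaw.ext (law_ext fun n p => ?_)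
  apply (TensorProduct.rid k (MvPolynomial (Fin n) k)).injective
  rw [← evl_eq_rid F (Algebra.ofId k _), ← evl_eq_rid G (Algebra.ofId k _)]
  let ψ : MvPolynomial (Fin n) k →ₐ[k] MvPolynomial (Fin n) (AlgebraicClosure k) :=
    MvPolynomial.mapAlgHom (Algebra.ofId k (AlgebraicClosure k))
  apply (MvPolynomial.map_injective (algebraMap k (AlgebraicClosure k)) (RingHom.injective _) :
    Function.Injective ψ)
  let j : (AlgebraicClosure k) →ₐ[k] MvPolynomial (Fin n) (AlgebraicClosure k) := IsScalarTower.toAlgHom k (AlgebraicClosure k) _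
  show ψ _ = ψ _
  rw [← evl_nat' F _ ψ (Subsingleton.elim _ (j.comp (Algebra.ofId k (AlgebraicClosure k)))),
    ← evl_nat' G _ ψ (Subsingleton.elim _ (j.comp (Algebra.ofId k (AlgebraicClosure k)))), hx, hy]
  have h' := congrArg (Multiset.map fun s : K →ₐ[k] (AlgebraicClosure k) => mu (j.comp s) (rB K ψ p)) h
  rw [Multiset.map_map, Multiset.map_map] at h'
  simpa [Finset.prod, Function.comp_def] using congrArg Multiset.prod h'

/-- A monic polynomial whose roots are all roots of one irreducible is a power of it. -/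
theorem eq_pow_of_roots {L : Type u} [Field L] [Algebra k L] [IsAlgClosed L] {g : k[X]}
    (hg : g.Monic) (hgi : Irreducible g) (h : k[X]) (hm : h.Monic)
    (hr : ∀ y : L, aeval y h = 0 → aeval y g = 0) : ∃ M, h = g ^ M := by
  induction hn : h.natDegree using Nat.strong_induction_on generalizing h with
  | _ n ih =>
    subst hn
    by_cases h0 : h.natDegree = 0
    · exact ⟨0, by rw [pow_zero, hm.natDegree_eq_zero.mp h0]⟩
    · obtain ⟨y, hy⟩ := IsAlgClosed.exists_aeval_eq_zero L h
        (fun e => h0 (natDegree_eq_zero_iff_degree_le_zero.mpr e.le))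
      have hgy := minpoly.eq_of_irreducible_of_monic hgi (hr y hy) hg
      obtain ⟨q, rfl⟩ : g ∣ h := hgy ▸ minpoly.dvd k y hy
      have hqm : q.Monic := hg.of_mul_monic_left hm
      have hlt : q.natDegree < (g * q).natDegree := by
        rw [hg.natDegree_mul hqm]
        have := hgi.natDegree_pos
        omega
      obtain ⟨M, rfl⟩ := ih _ hlt q hqm (fun z hz => hr z (by rw [map_mul, hz, mul_zero])) rfl
      exact ⟨M + 1, by rw [pow_succ']⟩

variable {d : ℕ} {F : PolLaw.MulLaw k K k d} {x : Fin d → (K →ₐ[k] (AlgebraicClosure k))}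
  (hx : ∀ (R : Type u) [CommRing R] [Algebra k R] (j : (AlgebraicClosure k) →ₐ[k] R) (z : R ⊗[k] K),
    evl F (j.comp (Algebra.ofId k (AlgebraicClosure k))) z = ∏ i, mu (j.comp (x i)) z)

variable [FiniteDimensional k K]

include hx in
/-- The point multiset seen by one element `u` is a power of its minimal polynomial. -/
theorem exists_count_eq (u : K) : ∃ M : ℕ, d = M * (minpoly k u).natDegree ∧ ∀ y : (AlgebraicClosure k),
    ((Finset.univ : Finset (Fin d)).val.map fun i => x i u).count y =
      M * rootMultiplicity y ((minpoly k u).map (algebraMap k (AlgebraicClosure k))) := by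
  classical
  let z : k[X] ⊗[k] K := (X : k[X]) ⊗ₜ[k] 1 - (1 : k[X]) ⊗ₜ[k] u
  let h : k[X] := evl F (Algebra.ofId k k[X]) z
  let ψ : k[X] →ₐ[k] (AlgebraicClosure k)[X] := Polynomial.mapAlgHom (Algebra.ofId k (AlgebraicClosure k))
  let j : (AlgebraicClosure k) →ₐ[k] (AlgebraicClosure k)[X] := IsScalarTower.toAlgHom k (AlgebraicClosure k) (AlgebraicClosure k)[X]
  have hψh : h.map (algebraMap k (AlgebraicClosure k)) = ∏ i, (X - C (x i u)) := by
    show ψ h = _
    rw [← evl_nat' F _ ψ (Subsingleton.elim _ (j.comp (Algebra.ofId k (AlgebraicClosure k)))), hx]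
    refine Finset.prod_congr rfl fun i _ => ?_
    simp [z, ψ, j]
  have hmon : h.Monic := by
    refine Polynomial.monic_of_injective (RingHom.injective (algebraMap k (AlgebraicClosure k))) ?_
    rw [hψh]
    exact monic_prod_of_monic _ _ fun i _ => monic_X_sub_C _
  have hint : IsIntegral k u := Algebra.IsIntegral.isIntegral u
  obtain ⟨M, hM⟩ := eq_pow_of_roots (L := (AlgebraicClosure k)) (minpoly.monic hint) (minpoly.irreducible hint) h
    hmon (fun y hy => by
      rw [aeval_def, ← eval_map, hψh, eval_prod, Finset.prod_eq_zero_iff] at hy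
      obtain ⟨i, -, hi⟩ := hy
      rw [eval_sub, eval_X, eval_C, sub_eq_zero] at hi
      rw [hi, aeval_algHom_apply, minpoly.aeval, map_zero])
  refine ⟨M, ?_, fun y => ?_⟩
  · have := congrArg Polynomial.natDegree hψh
    rw [natDegree_map, hM, natDegree_pow, natDegree_prod_of_monic _ _
      fun i _ => monic_X_sub_C _] at this
    simpa using this.symm
  · have h1 := congrArg Polynomial.roots hψh
    rw [hM, Polynomial.map_pow, roots_pow, Finset.prod_eq_multiset_prod] at h1
    rw [show (Multiset.map (fun i => X - C (x i u)) (Finset.univ : Finset (Fin d)).val) =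
      ((Finset.univ : Finset (Fin d)).val.map fun i => x i u).map fun a => X - C a by
        rw [Multiset.map_map]; rfl, roots_multiset_prod_X_sub_C] at h1
    rw [← h1, Multiset.count_nsmul, count_roots]

/-- An element separating the embeddings has, as its count, the count of the embedding. -/
theorem count_of_separating (u : K) (hu : Function.Injective fun s : K →ₐ[k] (AlgebraicClosure k) => s u)
    (x : Fin d → (K →ₐ[k] (AlgebraicClosure k))) (s : K →ₐ[k] (AlgebraicClosure k)) :
    ((Finset.univ : Finset (Fin d)).val.map x).count s = ((Finset.univ : Finset (Fin d)).val.map fun i => x i u).count (s u) := by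
  classical
  rw [← Multiset.count_map_eq_count' (fun s : K →ₐ[k] (AlgebraicClosure k) => s u) _ hu s, Multiset.map_map]
  rfl

/-- Embeddings are determined on the separable closure. -/
theorem algHom_ext_separableClosure {s t : K →ₐ[k] (AlgebraicClosure k)}
    (h : ∀ a ∈ separableClosure k K, s a = t a) : s = t := by
  obtain ⟨q, hq⟩ := ExpChar.exists (separableClosure k K)
  ext a
  obtain ⟨n, b, hb⟩ := IsPurelyInseparable.pow_mem (separableClosure k K) q a
  haveI : ExpChar K q := expChar_of_injective_algebraMap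
    (RingHom.injective (algebraMap (separableClosure k K) K)) q
  haveI : ExpChar (AlgebraicClosure k) q := expChar_of_injective_ringHom (RingHom.injective s.toRingHom) q
  apply iterateFrobenius_inj (AlgebraicClosure k) q n
  rw [iterateFrobenius_def, iterateFrobenius_def, ← map_pow, ← map_pow, ← hb]
  exact h _ b.2

variable (k K) in
/-- A separable element separating the embeddings. -/
theorem exists_separating : ∃ θ : K, IsSeparable k θ ∧
    (minpoly k θ).natDegree = Field.finSepDegree k K ∧
    Function.Injective fun s : K →ₐ[k] (AlgebraicClosure k) => s θ := by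
  obtain ⟨θ, hθ⟩ := Field.exists_primitive_element k (separableClosure k K)
  refine ⟨θ.1, mem_separableClosure_iff.mp θ.2, ?_, fun s t hst => ?_⟩
  · rw [Field.finSepDegree_eq k K, ← IntermediateField.minpoly_eq θ]
    rw [← IntermediateField.adjoin.finrank (Algebra.IsIntegral.isIntegral θ), hθ]
    exact IntermediateField.finrank_top'
  · refine algHom_ext_separableClosure fun a ha => ?_
    have : s.comp (separableClosure k K).val = t.comp (separableClosure k K).val :=
      AlgHom.ext_of_adjoin_eq_top (s := {θ}) (by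
        rw [← IntermediateField.adjoin_simple_toSubalgebra_of_isAlgebraic
          (Algebra.IsAlgebraic.isAlgebraic θ), hθ, IntermediateField.top_toSubalgebra])
        (by rintro r rfl; exact hst)
    exact DFunLike.congr_fun this ⟨a, ha⟩

include hx in
/-- All embeddings occur with the multiplicity `d / d_s`. -/
theorem count_points : Field.finSepDegree k K ∣ d ∧
    ∀ s : K →ₐ[k] (AlgebraicClosure k), ((Finset.univ : Finset (Fin d)).val.map x).count s = d / Field.finSepDegree k K := by
  classical
  obtain ⟨θ, hsep, hdeg, hinj⟩ := exists_separating k K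
  obtain ⟨M, hd, hcount⟩ := exists_count_eq hx θ
  rw [hdeg] at hd
  have hpos : 0 < Field.finSepDegree k K := hdeg ▸ (minpoly.natDegree_pos
    (Algebra.IsIntegral.isIntegral θ))
  refine ⟨⟨M, by rw [hd, mul_comm]⟩, fun s => ?_⟩
  have h1 : rootMultiplicity (s θ) ((minpoly k θ).map (algebraMap k (AlgebraicClosure k))) = 1 := by
    refine le_antisymm (rootMultiplicity_le_one_of_separable (Polynomial.Separable.map (show (minpoly k θ).Separable from hsep)) _) ?_
    refine (rootMultiplicity_pos ((minpoly.monic (Algebra.IsIntegral.isIntegral θ)).map _).ne_zero).mpr ?_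
    rw [IsRoot, eval_map, ← aeval_def, aeval_algHom_apply, minpoly.aeval, map_zero]
  rw [count_of_separating θ hinj x s, hcount, h1, mul_one, hd, Nat.mul_div_cancel _ hpos]

/-- Laws of a given degree are unique. -/
theorem law_subsingleton (F G : PolLaw.MulLaw k K k d) : F = G := by
  classical
  obtain ⟨x, hx⟩ := exists_law_points F
  obtain ⟨y, hy⟩ := exists_law_points G
  refine eq_of_points F G x y hx hy (Multiset.ext.mpr fun s => ?_)
  rw [(count_points hx).2, (count_points hy).2]

include hx in
/-- The multiplicity kills inseparability. -/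
theorem pow_mem_separableClosure [Infinite k] (a : K) :
    a ^ (d / Field.finSepDegree k K) ∈ separableClosure k K := by
  classical
  obtain ⟨θ, hsep, -, hinj⟩ := exists_separating k K
  obtain ⟨-, hc⟩ := count_points hx
  obtain ⟨q, hq⟩ := ExpChar.exists k
  haveI : ExpChar K q := expChar_of_injective_algebraMap (RingHom.injective (algebraMap k K)) q
  haveI : ExpChar (AlgebraicClosure k) q := expChar_of_injective_algebraMap (RingHom.injective (algebraMap k (AlgebraicClosure k))) q
  let bad : Finset (AlgebraicClosure k) :=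
    (Finset.univ : Finset ((K →ₐ[k] (AlgebraicClosure k)) × (K →ₐ[k] (AlgebraicClosure k)))).image
      fun p => (p.2 a - p.1 a) / (p.1 θ - p.2 θ)
  have hfin : (algebraMap k (AlgebraicClosure k) ⁻¹' (bad : Set (AlgebraicClosure k))).Finite :=
    bad.finite_toSet.preimage (RingHom.injective (algebraMap k (AlgebraicClosure k))).injOn
  obtain ⟨c, hcbad⟩ := hfin.exists_notMem
  let v : K := a + algebraMap k K c * θ
  have hv : Function.Injective fun s : K →ₐ[k] (AlgebraicClosure k) => s v := by
    intro s t hst
    by_contra hne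
    have hne' : s θ - t θ ≠ 0 := sub_ne_zero.mpr fun e => hne (hinj e)
    refine hcbad (Finset.mem_coe.mpr (Finset.mem_image.mpr ⟨(s, t), Finset.mem_univ _, ?_⟩))
    simp only [v, map_add, map_mul, AlgHom.commutes] at hst
    rw [div_eq_iff hne']
    linear_combination -hst
  obtain ⟨M, -, hcount⟩ := exists_count_eq hx v
  have hint : IsIntegral k v := Algebra.IsIntegral.isIntegral v
  obtain ⟨n, g, hg, hexp⟩ :
      ∃ (n : ℕ) (g : k[X]), g.Separable ∧ expand k (q ^ n) g = minpoly k v := by
    obtain ⟨g, hg, n, hgn⟩ :=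
      (minpoly.irreducible hint).hasSeparableContraction q
    exact ⟨n, g, hg, hgn⟩
  have hvsep : v ^ q ^ n ∈ separableClosure k K := by
    rw [mem_separableClosure_iff]
    refine hg.of_dvd (minpoly.dvd k _ ?_)
    rw [← expand_aeval, hexp, minpoly.aeval]
  have hθmem : θ ∈ separableClosure k K := mem_separableClosure_iff.mpr hsep
  have hamem : a ^ q ^ n ∈ separableClosure k K := by
    have e : a ^ q ^ n = v ^ q ^ n - (algebraMap k K c * θ) ^ q ^ n := by
      rw [eq_sub_iff_add_eq, ← add_pow_expChar_pow]
    rw [e]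
    exact sub_mem hvsep (pow_mem (mul_mem (IntermediateField.algebraMap_mem _ c) hθmem) _)
  let s : K →ₐ[k] (AlgebraicClosure k) := IsAlgClosed.lift
  have h1 := hc s
  rw [count_of_separating v hv x s, hcount, ← hexp, map_expand, rootMultiplicity_expand_pow] at h1
  rw [← h1, ← mul_assoc, mul_comm M, mul_assoc, pow_mul]
  exact pow_mem hamem _

omit [FiniteDimensional k K] in
/-- The exponents which make everything separable are the multiples of the least one. -/
theorem dvd_of_forall_pow_mem {e c : ℕ} (he : 0 < e)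
    (hexp : ∀ x : K, x ^ e ∈ separableClosure k K)
    (hmin : ∀ n : ℕ, 0 < n → (∀ x : K, x ^ n ∈ separableClosure k K) → e ≤ n)
    (hc : ∀ x : K, x ^ c ∈ separableClosure k K) : e ∣ c := by
  rw [Nat.dvd_iff_mod_eq_zero]
  by_contra hne
  have := hmin _ (Nat.pos_of_ne_zero hne) fun x => by
    by_cases hx : x = 0
    · rw [hx, zero_pow hne]; exact zero_mem _
    · have e1 : x ^ (c % e) = x ^ c * ((x ^ e) ^ (c / e))⁻¹ := by
        rw [eq_mul_inv_iff_mul_eq₀ (pow_ne_zero _ (pow_ne_zero _ hx)), ← pow_mul, ← pow_add,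
          Nat.mod_add_div]
      rw [e1]
      exact mul_mem (hc x) (inv_mem (pow_mem (hexp x) _))
  exact absurd (Nat.mod_lt c he) (not_lt.mpr this)

/-- The quasi-degree divides the degree of any law. -/
theorem dvd_of_law {e : ℕ} (he : 0 < e)
    (hexp : ∀ x : K, x ^ e ∈ separableClosure k K)
    (hmin : ∀ n : ℕ, 0 < n → (∀ x : K, x ^ n ∈ separableClosure k K) → e ≤ n)
    (F : PolLaw.MulLaw k K k d) : Field.finSepDegree k K * e ∣ d := by
  obtain ⟨x, hx⟩ := exists_law_points F
  obtain ⟨hds, -⟩ := count_points hx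
  refine (Nat.mul_div_cancel' hds) ▸ Nat.mul_dvd_mul_left _ (dvd_of_forall_pow_mem he hexp hmin ?_)
  rcases finite_or_infinite k with hk | hk
  · haveI := PerfectField.ofFinite (K := k)
    intro a
    exact mem_separableClosure_iff.mpr (Algebra.IsSeparable.isSeparable k _)
  · exact pow_mem_separableClosure hx

/-- The exponent is a power of the exponential characteristic. -/
theorem exists_eq_pow {e : ℕ} (he : 0 < e) (hexp : ∀ x : K, x ^ e ∈ separableClosure k K)
    (hmin : ∀ n : ℕ, 0 < n → (∀ x : K, x ^ n ∈ separableClosure k K) → e ≤ n) :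
    ∃ (q j : ℕ), ExpChar k q ∧ e = q ^ j := by
  obtain ⟨q, hq⟩ := ExpChar.exists k
  haveI : ExpChar (separableClosure k K) q := expChar_of_injective_algebraMap
    (RingHom.injective (algebraMap k (separableClosure k K))) q
  obtain ⟨N, hN⟩ := (IsPurelyInseparable.hasExponent_iff' (separableClosure k K) K q).mp
    inferInstance
  have hdvd : e ∣ q ^ N := dvd_of_forall_pow_mem he hexp hmin fun a => by
    obtain ⟨b, hb⟩ := hN a
    rw [← hb]
    exact b.2
  rcases expChar_is_prime_or_one k q with hprime | h1
  · obtain ⟨j, -, hj⟩ := (Nat.dvd_prime_pow hprime).mp hdvd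
    exact ⟨q, j, hq, hj⟩
  · rw [h1, one_pow] at hdvd
    exact ⟨q, 0, hq, by rw [pow_zero, Nat.dvd_one.mp hdvd]⟩

/-- Existence. -/
theorem exists_law {e : ℕ} (he : 0 < e)
    (hexp : ∀ x : K, x ^ e ∈ separableClosure k K)
    (hmin : ∀ n : ℕ, 0 < n → (∀ x : K, x ^ n ∈ separableClosure k K) → e ≤ n)
    (h : Field.finSepDegree k K * e ∣ d) : Nonempty (PolLaw.MulLaw k K k d) := by
  obtain ⟨q, j, hq, hej⟩ := exists_eq_pow he hexp hmin
  obtain ⟨t, ht⟩ := h
  let E := separableClosure k K
  let ι : E →ₐ[k] K := (separableClosure k K).val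
  obtain ⟨π, hπ⟩ := LinearMap.exists_leftInverse_of_injective ι.toLinearMap
    (LinearMap.ker_eq_bot.mpr Subtype.val_injective)
  have hπ' : ∀ b : E, π (ι b) = b := fun b => LinearMap.congr_fun hπ b
  let Gl : K →ₚₗ[k] E := PolLaw.postcomp π (PolLaw.powLaw e)
  have key : ∀ (S : Type u) [CommSemiring S] [Algebra k S] (z : S ⊗[k] K),
      bc ι S (Gl.toFun' S z) = z ^ e := by
    intro S _ _ z
    have hr : ∃ w : S ⊗[k] E, bc ι S w = z ^ e := by
      rcases subsingleton_or_nontrivial (S ⊗[k] K) with hs | hs
      · exact ⟨0, Subsingleton.elim _ _⟩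
      haveI : ExpChar (S ⊗[k] K) q :=
        expChar_of_injective_algebraMap (RingHom.injective (algebraMap k (S ⊗[k] K))) q
      induction z using TensorProduct.induction_on with
      | zero => exact ⟨0, by rw [map_zero, zero_pow he.ne']⟩
      | tmul a b => exact ⟨(a ^ e) ⊗ₜ[k] ⟨b ^ e, hexp b⟩, by
          rw [bc_tmul, Algebra.TensorProduct.tmul_pow]; rfl⟩
      | add z₁ z₂ h₁ h₂ =>
        obtain ⟨w₁, hw₁⟩ := h₁
        obtain ⟨w₂, hw₂⟩ := h₂
        exact ⟨w₁ + w₂, by rw [map_add, hw₁, hw₂, hej, add_pow_expChar_pow]⟩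
    obtain ⟨w, hw⟩ := hr
    show bc ι S (π.lTensor S (z ^ e)) = z ^ e
    rw [← hw]
    congr 1
    rw [← lTensor_eq_bc, ← LinearMap.lTensor_comp_apply, hπ]
    simp
  have hinj : ∀ (S : Type u) [CommSemiring S] [Algebra k S], Function.Injective (bc ι S) :=
    fun S _ _ => bc_injective_of_leftInverse ι π hπ'
  let G : PolLaw.MulLaw k K E e :=
    { law := Gl
      homog := fun S _ _ s z => hinj S (by rw [key, map_smul, key, smul_pow])
      mult := fun S _ _ => ⟨hinj S (by rw [key, one_pow, map_one]),
        fun z w => hinj S (by rw [key, map_mul, key, key, mul_pow])⟩ }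
  let N := PolLaw.normLaw k E _ rfl
  let P : PolLaw.MulLaw k k k t := PolLaw.MulLaw.pow k k t
  refine ⟨{ law := P.law.comp (N.law.comp G.law), homog := ?_, mult := ?_ }⟩
  · intro S _ _ s z
    show P.law.toFun' S (N.law.toFun' S (G.law.toFun' S (s • z))) = _
    have hdE : Module.finrank k E = Field.finSepDegree k K := (Field.finSepDegree_eq k K).symm
    have hexp' : d = e * Module.finrank k E * t := by rw [hdE, ht]; ring
    rw [G.homog, N.homog, P.homog, ← pow_mul, ← pow_mul, hexp', mul_assoc]
    rfl
  · intro S _ _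
    refine ⟨?_, fun z w => ?_⟩
    · show P.law.toFun' S (N.law.toFun' S (G.law.toFun' S 1)) = 1
      rw [(G.mult S).1, (N.mult S).1, (P.mult S).1]
    · show P.law.toFun' S (N.law.toFun' S (G.law.toFun' S (z * w))) = _
      rw [(G.mult S).2, (N.mult S).2, (P.mult S).2]
      rfl

end Groth.Agent.ZBField
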